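import Mathlib.Data.Nat.Choose.Factorization
import Mathlib.NumberTheory.Primorial
import Mathlib.Tactic

set_option autoImplicit false

/-!
# Several primes in the upper half of `[1, m]`

Erdős's argument for Bertrand's postulate gives three primes in `(n, 2 n]` for large `n`.
-/

namespace Cfsg.Agent.TwoPrimes

open Nat

theorem centralBinom_le_of_few {n : ℕ} (hn : 2 < n)
    (hT : ({p ∈ Finset.Ioc n (2 * n) | p.Prime}).card ≤ 2) :
    centralBinom n ≤ (2 * n) ^ sqrt (2 * n) * 4 ^ (2 * n / 3) * (2 * n) ^ 2 := by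
  have n2 : 1 ≤ 2 * n := by omega
  let f : ℕ → ℕ := fun x => x ^ n.centralBinom.factorization x
  have hf : ∀ p, f p ≤ 2 * n := fun p => pow_factorization_choose_le (by omega)
  rw [← n.prod_pow_factorization_centralBinom,
    ← Finset.prod_filter_mul_prod_filter_not (Finset.range (2 * n + 1)) (· ≤ 2 * n / 3)]
  refine Nat.mul_le_mul ?_ ?_
  · let S := {p ∈ Finset.range (2 * n + 1) | p ≤ 2 * n / 3 ∧ Nat.Prime p}
    have hS : ∏ x ∈ S, f x = ∏ x ∈ {p ∈ Finset.range (2 * n + 1) | p ≤ 2 * n / 3}, f x := by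
      refine Finset.prod_subset (fun x hx => ?_) fun x hx hx' => ?_
      · simp only [S, Finset.mem_filter] at hx ⊢
        exact ⟨hx.1, hx.2.1⟩
      · simp only [S, Finset.mem_filter] at hx hx'
        have : ¬ x.Prime := fun h => hx' ⟨hx.1, hx.2, h⟩
        simp only [f]
        rw [factorization_eq_zero_of_not_prime n.centralBinom this, pow_zero]
    rw [← hS, ← Finset.prod_filter_mul_prod_filter_not S (· ≤ sqrt (2 * n))]
    refine Nat.mul_le_mul ?_ ?_
    · refine (Finset.prod_le_pow_card _ _ _ fun p _ => hf p).trans ?_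
      refine Nat.pow_le_pow_right (by omega) ?_
      refine le_trans (Finset.card_le_card (t := Finset.Icc 1 (sqrt (2 * n))) fun x hx => ?_) (by simp)
      simp only [S, Finset.mem_filter] at hx
      exact Finset.mem_Icc.2 ⟨hx.1.2.2.one_lt.le, hx.2⟩
    · refine le_trans ?_ (primorial_le_four_pow (2 * n / 3))
      refine le_trans (Finset.prod_le_prod' fun p hp => (?_ : f p ≤ p)) ?_
      · simp only [S, Finset.mem_filter] at hp
        refine (Nat.pow_le_pow_right hp.1.2.2.pos ?_).trans (pow_one p).le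
        exact Nat.factorization_choose_le_one (sqrt_lt'.mp <| not_le.1 hp.2)
      refine Finset.prod_le_prod_of_subset_of_one_le' (fun x hx => ?_)
        fun x hx _ => (Finset.mem_filter.1 hx).2.one_lt.le
      simp only [S, Finset.mem_filter] at hx
      exact Finset.mem_filter.2 ⟨Finset.mem_range.2 (Nat.lt_succ_iff.2 hx.1.2.1), hx.1.2.2⟩
  · refine le_trans ?_ (Nat.pow_le_pow_right (by omega : 0 < 2 * n) hT)
    refine le_trans (le_of_eq ?_) (Finset.prod_le_pow_card _ f _ fun p _ => hf p)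
    refine (Finset.prod_subset (fun x hx => ?_) fun x hx hx' => ?_).symm
    · simp only [Finset.mem_filter, Finset.mem_Ioc] at hx
      simp only [Finset.mem_filter, Finset.mem_range]
      omega
    · simp only [Finset.mem_filter, Finset.mem_range, Finset.mem_Ioc] at hx hx'
      by_cases hxp : x.Prime
      · have hxn : x ≤ n := by
          by_contra h
          exact hx' ⟨⟨by omega, by omega⟩, hxp⟩
        rw [factorization_centralBinom_of_two_mul_self_lt_three_mul hn hxn (by omega), pow_zero]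
      · rw [factorization_eq_zero_of_not_prime n.centralBinom hxp, pow_zero]

theorem small_pow {s : ℕ} (hs : 48 ≤ s) : s + 1 ≤ 2 ^ (s / 8) := by
  induction s using Nat.strong_induction_on with
  | _ s ih =>
    by_cases h : s < 56
    · have : 6 ≤ s / 8 := by omega
      calc s + 1 ≤ 2 ^ 6 := by norm_num; omega
        _ ≤ _ := Nat.pow_le_pow_right (by norm_num) this
    · have h1 := ih (s - 8) (by omega) (by omega)
      rw [show s / 8 = (s - 8) / 8 + 1 by omega, pow_succ]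
      omega

theorem main_inequality {n : ℕ} (hn : 1152 ≤ n) :
    n * ((2 * n) ^ sqrt (2 * n) * 4 ^ (2 * n / 3) * (2 * n) ^ 2) ≤ 4 ^ n := by
  set s := sqrt (2 * n)
  have hs : 48 ≤ s := Nat.le_sqrt.2 (by omega)
  have hs1 : 2 * n ≤ (s + 1) ^ 2 := (Nat.lt_succ_sqrt' (2 * n)).le
  have hs2 : s ^ 2 ≤ 2 * n := Nat.sqrt_le' (2 * n)
  have he : 3 * (s / 8 * (s + 3)) ≤ n := by
    have h8 : 8 * (s / 8) ≤ s := Nat.mul_div_le s 8
    nlinarith [Nat.mul_le_mul_right (s + 3) h8]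
  calc n * ((2 * n) ^ s * 4 ^ (2 * n / 3) * (2 * n) ^ 2)
      ≤ (2 * n) * ((2 * n) ^ s * 4 ^ (2 * n / 3) * (2 * n) ^ 2) := Nat.mul_le_mul_right _ (by omega)
    _ = (2 * n) ^ (s + 3) * 4 ^ (2 * n / 3) := by ring
    _ ≤ ((s + 1) ^ 2) ^ (s + 3) * 4 ^ (2 * n / 3) := Nat.mul_le_mul_right _ (Nat.pow_le_pow_left hs1 _)
    _ ≤ ((2 ^ (s / 8)) ^ 2) ^ (s + 3) * 4 ^ (2 * n / 3) :=
        Nat.mul_le_mul_right _ (Nat.pow_le_pow_left (Nat.pow_le_pow_left (small_pow hs) _) _)
    _ = 4 ^ (s / 8 * (s + 3) + 2 * n / 3) := by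
        rw [show (4 : ℕ) = 2 ^ 2 by norm_num, ← pow_mul, ← pow_mul, ← pow_mul, ← pow_add, ← pow_mul]
        congr 1
        ring
    _ ≤ 4 ^ n := Nat.pow_le_pow_right (by norm_num) (by omega)

theorem exists_far_primes {n : ℕ} (hn : 1152 ≤ n) :
    ∃ p q : ℕ, p.Prime ∧ q.Prime ∧ n < p ∧ p + 3 ≤ q ∧ q ≤ 2 * n := by
  have h3 : 2 < ({p ∈ Finset.Ioc n (2 * n) | p.Prime}).card := by
    by_contra h
    have h1 := centralBinom_le_of_few (by omega) (not_lt.1 h)
    have h2 := Nat.four_pow_lt_mul_centralBinom n (by omega)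
    have := main_inequality hn
    have := Nat.mul_le_mul_left n h1
    omega
  obtain ⟨a, b, c, ha, hb, hc, hab, hac, hbc⟩ := Finset.two_lt_card_iff.1 h3
  simp only [Finset.mem_filter, Finset.mem_Ioc] at ha hb hc
  have par : ∀ {x : ℕ}, x.Prime → n < x → x % 2 = 1 := fun hx hxn =>
    Nat.odd_iff.1 (hx.odd_of_ne_two (by omega))
  have := par ha.2 ha.1.1
  have := par hb.2 hb.1.1
  have := par hc.2 hc.1.1
  rcases (show (a + 3 ≤ b ∨ a + 3 ≤ c ∨ b + 3 ≤ a ∨ b + 3 ≤ c ∨ c + 3 ≤ a ∨ c + 3 ≤ b) by omega) with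
    h | h | h | h | h | h
  · exact ⟨a, b, ha.2, hb.2, ha.1.1, h, hb.1.2⟩
  · exact ⟨a, c, ha.2, hc.2, ha.1.1, h, hc.1.2⟩
  · exact ⟨b, a, hb.2, ha.2, hb.1.1, h, ha.1.2⟩
  · exact ⟨b, c, hb.2, hc.2, hb.1.1, h, hc.1.2⟩
  · exact ⟨c, a, hc.2, ha.2, hc.1.1, h, ha.1.2⟩
  · exact ⟨c, b, hc.2, hb.2, hc.1.1, h, hb.1.2⟩

/-- For `m ≥ 17` there are primes `p`, `q` with `p + 3 ≤ q ≤ m < 2 p`. -/
theorem exists_pair {m : ℕ} (hm : 17 ≤ m) :
    ∃ p q : ℕ, p.Prime ∧ q.Prime ∧ m < 2 * p ∧ p + 3 ≤ q ∧ q ≤ m := by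
  by_cases hbig : 2400 ≤ m
  · obtain ⟨p, q, hp, hq, h1, h2, h3⟩ := exists_far_primes (n := m / 2) (by omega)
    exact ⟨p, q, hp, hq, by omega, h2, by omega⟩
  have key : ∀ p q : ℕ, p.Prime → q.Prime → p + 3 ≤ q → q ≤ m → m < 2 * p →
      ∃ p q : ℕ, p.Prime ∧ q.Prime ∧ m < 2 * p ∧ p + 3 ≤ q ∧ q ≤ m :=
    fun p q hp hq h1 h2 h3 => ⟨p, q, hp, hq, h3, h1, h2⟩
  rcases (show m ≤ 25 ∨ (26 ≤ m ∧ m ≤ 37) ∨ (38 ≤ m ∧ m ≤ 61) ∨ (62 ≤ m ∧ m ≤ 105) ∨
      (106 ≤ m ∧ m ≤ 193) ∨ (194 ≤ m ∧ m ≤ 361) ∨ (362 ≤ m ∧ m ≤ 705) ∨ (706 ≤ m ∧ m ≤ 1381) ∨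
      (1382 ≤ m ∧ m ≤ 2745) by omega) with h | h | h | h | h | h | h | h | h
  · exact key 13 17 (by norm_num) (by norm_num) (by norm_num) (by omega) (by omega)
  · exact key 19 23 (by norm_num) (by norm_num) (by norm_num) (by omega) (by omega)
  · exact key 31 37 (by norm_num) (by norm_num) (by norm_num) (by omega) (by omega)
  · exact key 53 59 (by norm_num) (by norm_num) (by norm_num) (by omega) (by omega)
  · exact key 97 101 (by norm_num) (by norm_num) (by norm_num) (by omega) (by omega)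
  · exact key 181 191 (by norm_num) (by norm_num) (by norm_num) (by omega) (by omega)
  · exact key 353 359 (by norm_num) (by norm_num) (by norm_num) (by omega) (by omega)
  · exact key 691 701 (by norm_num) (by norm_num) (by norm_num) (by omega) (by omega)
  · exact key 1373 1381 (by norm_num) (by norm_num) (by norm_num) (by omega) (by omega)

end Cfsg.Agent.TwoPrimes
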